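import Mathlib
import Cfsg.Prelude.Def_GeometricClasses

/-!
Abelian normal subgroups of an irreducible primitive matrix group act fixed-point-freely.
-/

set_option autoImplicit false

namespace Cfsg.Agent.SolvStruct.PrimFix

open Matrix

variable {F : Type*} [Field F] {n : ℕ}

local notation "M" => Matrix (Fin n) (Fin n) F

/-- Pairwise commuting nilpotent matrices kill a common nonzero vector. -/
theorem exists_common_kernel [NeZero n] (s : Finset M) (hnil : ∀ x ∈ s, IsNilpotent x)
    (hcomm : ∀ x ∈ s, ∀ y ∈ s, x * y = y * x) :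
    ∃ v : Fin n → F, v ≠ 0 ∧ ∀ x ∈ s, x *ᵥ v = 0 := by
  classical
  induction s using Finset.induction_on with
  | empty =>
    obtain ⟨v, hv⟩ := exists_ne (0 : Fin n → F)
    exact ⟨v, hv, by simp⟩
  | insert x s _ ih =>
    obtain ⟨v, hv, hs⟩ := ih (fun y hy => hnil y (Finset.mem_insert_of_mem hy))
      (fun a ha b hb => hcomm a (Finset.mem_insert_of_mem ha) b (Finset.mem_insert_of_mem hb))
    obtain ⟨k, hk⟩ := hnil x (Finset.mem_insert_self x s)
    have hex : ∃ j, (x ^ j) *ᵥ v = 0 := ⟨k, by rw [hk, zero_mulVec]⟩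
    have hj := Nat.find_spec hex
    have hj0 : Nat.find hex ≠ 0 := by
      intro h
      rw [h, pow_zero, one_mulVec] at hj
      exact hv hj
    obtain ⟨j, hjj⟩ := Nat.exists_eq_succ_of_ne_zero hj0
    refine ⟨(x ^ j) *ᵥ v, Nat.find_min hex (by omega), fun y hy => ?_⟩
    rcases Finset.mem_insert.mp hy with rfl | hy'
    · rw [mulVec_mulVec, ← pow_succ']
      rw [hjj] at hj
      exact hj
    · have hc : Commute y (x ^ j) :=
        Commute.pow_right (hcomm y hy x (Finset.mem_insert_self x s)) j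
      rw [mulVec_mulVec, hc.eq, ← mulVec_mulVec, hs y hy', mulVec_zero]

/-- `e` is an idempotent of `S` that is minimal among the nonzero ones. -/
def IsAtomIdem (S : Set M) (e : M) : Prop :=
  e ∈ S ∧ e * e = e ∧ e ≠ 0 ∧ ∀ f ∈ S, f * f = f → e * f = 0 ∨ e * f = e

theorem exists_atom_le (S : Subalgebra F M) (hcomm : ∀ x ∈ S, ∀ y ∈ S, x * y = y * x)
    {e : M} (he : e ∈ S) (hee : e * e = e) (he0 : e ≠ 0) :
    ∃ f, IsAtomIdem (S : Set M) f ∧ f * e = f := by
  classical
  have hex : ∃ d, ∃ f ∈ S, f * f = f ∧ f ≠ 0 ∧ f * e = f ∧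
      Module.finrank F (LinearMap.range f.toLin') = d := ⟨_, e, he, hee, he0, hee, rfl⟩
  obtain ⟨f, hfS, hff, hf0, hfe, hd⟩ := Nat.find_spec hex
  refine ⟨f, ⟨hfS, hff, hf0, fun f' hf' hf'' => ?_⟩, hfe⟩
  by_contra hcon
  rw [not_or] at hcon
  have hidem : f * f' * (f * f') = f * f' := by
    rw [(show Commute f' f from hcomm f' hf' f hfS).mul_mul_mul_comm, hff, hf'']
  have hle : LinearMap.range (f * f').toLin' ≤ LinearMap.range f.toLin' := by
    rw [toLin'_mul]
    exact LinearMap.range_comp_le_range _ _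
  have hlt : LinearMap.range (f * f').toLin' < LinearMap.range f.toLin' := by
    refine lt_of_le_of_ne hle fun heq => hcon.2 ?_
    apply Matrix.toLin'.injective
    refine LinearMap.ext fun v => ?_
    have hv : f.toLin' v ∈ LinearMap.range (f * f').toLin' := heq ▸ LinearMap.mem_range_self _ v
    obtain ⟨w, hw⟩ := hv
    have h1 : (f * f').toLin' (f.toLin' v) = f.toLin' v := by
      rw [← hw, ← LinearMap.comp_apply, ← toLin'_mul, hidem]
    rwa [← LinearMap.comp_apply, ← toLin'_mul, mul_assoc, hcomm f' hf' f hfS, ← mul_assoc, hff]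
      at h1
  refine Nat.find_min hex (hd ▸ Submodule.finrank_lt_finrank_of_lt hlt)
    ⟨f * f', mul_mem hfS hf', hidem, hcon.1, ?_, rfl⟩
  rw [mul_assoc, hcomm f' hf' e he, ← mul_assoc, hfe]

variable [Fintype F]

/-- If a commutative algebra normalised by an irreducible primitive group had a nonzero element with
a kernel, the atoms of its idempotents would form an imprimitivity system. -/
theorem mulVec_injective_of_primitive (G : Subgroup (GL (Fin n) F))
    (hirr : Cfsg.Geo.ActsIrreducibly (Cfsg.Geo.matrixSet G))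
    (hprim : ∀ (m t : ℕ) (D : Fin t → Submodule F (Fin n → F)), 2 ≤ t →
      Cfsg.Geo.IsMDecomposition m D → ¬ G ≤ Cfsg.Geo.decompositionStabilizer D)
    (S : Subalgebra F M) (hcomm : ∀ x ∈ S, ∀ y ∈ S, x * y = y * x)
    (hnorm : ∀ g ∈ G, ∀ x ∈ S, ((g : GL (Fin n) F) : M) * x * ((g⁻¹ : GL (Fin n) F) : M) ∈ S)
    {x : M} (hx : x ∈ S) (hx0 : x ≠ 0) (v : Fin n → F) (hv : x *ᵥ v = 0) : v = 0 := by
  classical
  by_contra hv0
  haveI : NeZero n := ⟨fun h => by subst h; exact hv0 (Subsingleton.elim _ _)⟩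
  -- no nilpotents
  have hred : ∀ y ∈ S, IsNilpotent y → y = 0 := by
    intro y hy hny
    let K : Submodule F (Fin n → F) :=
      ⨅ z : {z : M // z ∈ S ∧ IsNilpotent z}, LinearMap.ker (z : M).toLin'
    have hK : K ≠ ⊥ := by
      obtain ⟨w, hw, hw'⟩ := exists_common_kernel
        (Finset.univ.filter fun z : M => z ∈ S ∧ IsNilpotent z)
        (fun z hz => (Finset.mem_filter.mp hz).2.2)
        (fun a ha b hb => hcomm a (Finset.mem_filter.mp ha).2.1 b (Finset.mem_filter.mp hb).2.1)
      refine (Submodule.ne_bot_iff _).mpr ⟨w, (Submodule.mem_iInf _).mpr fun z => ?_, hw⟩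
      rw [LinearMap.mem_ker, toLin'_apply]
      exact hw' z (by simp [z.2.1, z.2.2])
    have hinv : ∀ g ∈ Cfsg.Geo.matrixSet G, K.map (Matrix.toLin' g) ≤ K := by
      rintro _ ⟨g, hg, rfl⟩ _ ⟨w, hw, rfl⟩
      refine (Submodule.mem_iInf _).mpr fun z => ?_
      rw [LinearMap.mem_ker, toLin'_apply, toLin'_apply, mulVec_mulVec]
      have hz' := hnorm g⁻¹ (inv_mem hg) z z.2.1
      rw [inv_inv] at hz'
      have hnil : IsNilpotent (((g⁻¹ : GL (Fin n) F) : M) * (z : M) * ((g : GL (Fin n) F) : M)) := by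
        obtain ⟨k, hk⟩ := z.2.2
        refine ⟨k, ?_⟩
        rw [Units.conj_pow', hk, mul_zero, zero_mul]
      have h1 : (((g⁻¹ : GL (Fin n) F) : M) * (z : M) * ((g : GL (Fin n) F) : M)) *ᵥ w = 0 := by
        have := (Submodule.mem_iInf _).mp hw ⟨_, hz', hnil⟩
        rwa [LinearMap.mem_ker, toLin'_apply] at this
      have h2 := congrArg (((g : GL (Fin n) F) : M) *ᵥ ·) h1
      simp only [mulVec_mulVec, mulVec_zero, ← mul_assoc, Units.mul_inv, one_mul] at h2
      exact h2
    have htop : K = ⊤ := (hirr K hinv).resolve_left hK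
    apply Matrix.toLin'.injective
    rw [map_zero]
    refine LinearMap.ext fun w => ?_
    have := (Submodule.mem_iInf _).mp (htop ▸ Submodule.mem_top : w ∈ K) ⟨y, hy, hny⟩
    rwa [LinearMap.mem_ker] at this
  -- a nontrivial idempotent
  obtain ⟨e, heS, hee, he0, he1⟩ : ∃ e ∈ S, e * e = e ∧ e ≠ 0 ∧ e ≠ 1 := by
    obtain ⟨i, j, hij, hpow⟩ : ∃ i j : ℕ, i < j ∧ x ^ i = x ^ j := by
      obtain ⟨i, j, hne, h⟩ := Finite.exists_ne_map_eq_of_infinite (fun k : ℕ => x ^ k)
      rcases lt_or_gt_of_ne hne with hl | hl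
      · exact ⟨i, j, hl, h⟩
      · exact ⟨j, i, hl, h.symm⟩
    have hper : ∀ m t : ℕ, i ≤ m → x ^ (m + t * (j - i)) = x ^ m := by
      intro m t hm
      induction t with
      | zero => simp
      | succ t ih =>
        rw [show m + (t + 1) * (j - i) = (m - i + t * (j - i)) + j by
          rw [Nat.succ_mul]; omega, pow_add, ← hpow, ← pow_add,
          show m - i + t * (j - i) + i = m + t * (j - i) by omega, ih]
    set N := (i + 1) * (j - i) with hN
    have hiN : i + 1 ≤ N := Nat.le_mul_of_pos_right _ (by omega)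
    refine ⟨x ^ N, pow_mem hx N, ?_, fun h => hx0 (hred x hx ⟨N, h⟩), fun h => ?_⟩
    · rw [← pow_add]
      conv_lhs => rw [show N + N = N + (i + 1) * (j - i) from rfl]
      exact hper N (i + 1) (by omega)
    · apply hv0
      have h2 := congrArg (· *ᵥ v) h
      obtain ⟨k, hk⟩ := Nat.exists_eq_succ_of_ne_zero (show N ≠ 0 by omega)
      simp only [hk, pow_succ, ← mulVec_mulVec, hv, mulVec_zero, one_mulVec] at h2
      exact h2.symm
  -- atoms
  let At := {f : M // IsAtomIdem (S : Set M) f}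
  have horth : ∀ f f' : At, f ≠ f' → (f : M) * f' = 0 := by
    intro f f' hne
    rcases f.2.2.2.2 f' f'.2.1 f'.2.2.1 with h | h
    · exact h
    rcases f'.2.2.2.2 f f.2.1 f.2.2.1 with h' | h'
    · rw [hcomm _ f.2.1 _ f'.2.1, h']
    · exact absurd (Subtype.ext (by rw [← h, hcomm _ f.2.1 _ f'.2.1, h'])) hne
  have hsum : ∑ f : At, (f : M) = 1 := by
    have hmul : ∀ f : At, (f : M) * ∑ f' : At, (f' : M) = f := by
      intro f
      rw [Finset.mul_sum, Finset.sum_eq_single f (fun f' _ h => horth f f' (Ne.symm h))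
        (fun h => absurd (Finset.mem_univ f) h), f.2.2.1]
    by_contra hne
    obtain ⟨f, hf, hfe⟩ := exists_atom_le S hcomm
      (e := 1 - ∑ f : At, (f : M)) (sub_mem (one_mem S) (sum_mem fun f _ => f.2.1))
      (by
        rw [sub_mul, mul_sub, mul_sub, one_mul, mul_one, one_mul, Finset.sum_mul]
        simp only [hmul]
        abel)
      (sub_ne_zero.mpr (Ne.symm hne))
    rw [mul_sub, mul_one, hmul ⟨f, hf⟩, sub_self] at hfe
    exact hf.2.2.1 hfe.symm
  let R : At → Submodule F (Fin n → F) := fun f => LinearMap.range (f : M).toLin'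
  have hfix : ∀ f : At, ∀ w ∈ R f, (f : M) *ᵥ w = w := by
    rintro f _ ⟨u, rfl⟩
    rw [toLin'_apply, mulVec_mulVec, f.2.2.1]
  have hkill : ∀ f f' : At, f ≠ f' → ∀ w ∈ R f', (f : M) *ᵥ w = 0 := by
    intro f f' hne w hw
    rw [← hfix f' w hw, mulVec_mulVec, horth f f' hne, zero_mulVec]
  have hindep : iSupIndep R := by
    intro f
    rw [Submodule.disjoint_def]
    intro w hw hw'
    have hle : (⨆ (f' : At) (_ : f' ≠ f), R f') ≤ LinearMap.ker (f : M).toLin' :=
      iSup₂_le fun f' hne u hu => by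
        rw [LinearMap.mem_ker, toLin'_apply]; exact hkill f f' (Ne.symm hne) u hu
    have h0 := hle hw'
    rw [LinearMap.mem_ker, toLin'_apply, hfix f w hw] at h0
    exact h0
  have htop : iSup R = ⊤ := by
    rw [eq_top_iff]
    intro w _
    rw [← one_mulVec w, ← hsum, Matrix.sum_mulVec]
    exact Submodule.sum_mem _ fun f _ =>
      Submodule.mem_iSup_of_mem f (LinearMap.mem_range_self ((f : M).toLin') w)
  let act : G → At → At := fun g f =>
    ⟨((g : GL (Fin n) F) : M) * f * (((g : GL (Fin n) F)⁻¹ : GL (Fin n) F) : M), hnorm g g.2 _ f.2.1,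
      by
        rw [show ((g : GL (Fin n) F) : M) * f * _ * (_ * f * _) = ((g : GL (Fin n) F) : M) * ((f : M) *
          ((((g : GL (Fin n) F)⁻¹ : GL (Fin n) F) : M) * ((g : GL (Fin n) F) : M)) * f) *
          (((g : GL (Fin n) F)⁻¹ : GL (Fin n) F) : M) by simp only [mul_assoc]]
        rw [Units.inv_mul, mul_one, f.2.2.1],
      fun h => f.2.2.2.1 (by
        have h1 := congrArg (fun y => (((g : GL (Fin n) F)⁻¹ : GL (Fin n) F) : M) * y * ((g : GL (Fin n) F) : M)) h
        simpa [mul_assoc] using h1),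
      fun y hy hyy => by
        have hy' := hnorm _ (inv_mem g.2) y hy
        rw [inv_inv] at hy'
        rcases f.2.2.2.2 _ hy' (by
          rw [show ∀ a b : M, a * y * b * (a * y * b) = a * (y * (b * a) * y) * b from
            fun a b => by simp only [mul_assoc], Units.mul_inv, mul_one, hyy]) with h | h
        · left
          have h1 := congrArg (fun z => ((g : GL (Fin n) F) : M) * z * (((g : GL (Fin n) F)⁻¹ : GL (Fin n) F) : M)) h
          simpa [mul_assoc] using h1
        · right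
          have h1 := congrArg (fun z => ((g : GL (Fin n) F) : M) * z * (((g : GL (Fin n) F)⁻¹ : GL (Fin n) F) : M)) h
          simpa [mul_assoc] using h1⟩
  have hactinj : ∀ g, Function.Injective (act g) := by
    intro g f f' h
    have h1 := congrArg (fun z : At =>
      (((g : GL (Fin n) F)⁻¹ : GL (Fin n) F) : M) * z.1 * ((g : GL (Fin n) F) : M)) h
    exact Subtype.ext (by simpa [act, mul_assoc] using h1)
  have hmap : ∀ (g : G) (f : At), (R f).map (Matrix.toLin' ((g : GL (Fin n) F) : M)) = R (act g f) := by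
    intro g f
    simp only [R, act, toLin'_mul, LinearMap.range_comp]
    rw [show LinearMap.range (Matrix.toLin' (((g : GL (Fin n) F)⁻¹ : GL (Fin n) F) : M)) = ⊤ by
      rw [LinearMap.range_eq_top]
      intro w
      refine ⟨((g : GL (Fin n) F) : M) *ᵥ w, ?_⟩
      rw [toLin'_apply, mulVec_mulVec, Units.inv_mul, one_mulVec]]
    rw [Submodule.map_top, LinearMap.range_comp]
  obtain ⟨f₀, hf₀⟩ : ∃ f : At, True :=
    ⟨⟨_, (exists_atom_le S hcomm heS hee he0).choose_spec.1⟩, trivial⟩
  have horbit : ∀ f : At, ∃ g : G, act g f₀ = f := by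
    intro f
    by_contra hno
    push_neg at hno
    let W : Submodule F (Fin n → F) := ⨆ g : G, R (act g f₀)
    have hW : W ≠ ⊥ := by
      intro h
      have h1 : R (act 1 f₀) = ⊥ := eq_bot_iff.mpr (h ▸ le_iSup (fun g : G => R (act g f₀)) 1)
      rw [LinearMap.range_eq_bot, LinearEquiv.map_eq_zero_iff] at h1
      exact (act 1 f₀).2.2.2.1 h1
    have hinv : ∀ g ∈ Cfsg.Geo.matrixSet G, W.map (Matrix.toLin' g) ≤ W := by
      rintro _ ⟨g, hg, rfl⟩
      rw [Submodule.map_iSup]
      refine iSup_le fun h => ?_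
      show Submodule.map (Matrix.toLin' ((g : GL (Fin n) F) : M)) _ ≤ W
      rw [hmap ⟨g, hg⟩]
      refine le_iSup_of_le (⟨g, hg⟩ * h) (le_of_eq (congrArg R (Subtype.ext ?_)))
      simp [act, mul_assoc, _root_.mul_inv_rev]
    have htopW := (hirr W hinv).resolve_left hW
    have hle : W ≤ LinearMap.ker (f : M).toLin' := iSup_le fun g u hu => by
      rw [LinearMap.mem_ker, toLin'_apply]; exact hkill f _ (Ne.symm (hno g)) u hu
    rw [htopW, top_le_iff, LinearMap.ker_eq_top, LinearEquiv.map_eq_zero_iff] at hle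
    exact f.2.2.2.1 hle
  have hdim : ∀ f : At, Module.finrank F (R f) = Module.finrank F (R f₀) := by
    intro f
    obtain ⟨g, rfl⟩ := horbit f
    rw [← hmap g f₀]
    refine (LinearEquiv.finrank_eq (Submodule.equivMapOfInjective _ ?_ _)).symm
    intro a b hab
    have h := congrArg (((g : GL (Fin n) F)⁻¹ : GL (Fin n) F).1 *ᵥ ·) hab
    simpa [mulVec_mulVec] using h
  let eqv := (Fintype.equivFin At).symm
  have ht : 2 ≤ Fintype.card At := by
    by_contra hlt
    haveI : Subsingleton At := Fintype.card_le_one_iff_subsingleton.mp (by omega)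
    have h1 : (f₀ : M) = 1 := by
      rw [← hsum]; exact (Fintype.sum_subsingleton (fun f : At => (f : M)) f₀).symm
    rcases f₀.2.2.2.2 e heS hee with h | h <;> rw [h1, one_mul] at h
    · exact he0 h
    · exact he1 h
  refine hprim (Module.finrank F (R f₀)) (Fintype.card At) (fun i => R (eqv i)) ht
    ⟨ht, ?_, fun i => hdim _, hindep.comp eqv.injective, ?_⟩ ?_
  · rw [Module.finrank_pos_iff, Submodule.nontrivial_iff_ne_bot]
    intro h
    rw [LinearMap.range_eq_bot, LinearEquiv.map_eq_zero_iff] at h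
    exact f₀.2.2.2.1 h
  · rw [eqv.surjective.iSup_comp R, htop]
  · intro g hg
    refine ⟨((eqv.trans (Equiv.ofBijective (act ⟨g, hg⟩)
      (Finite.injective_iff_bijective.mp (hactinj _)))).trans eqv.symm), fun i => ?_⟩
    rw [hmap ⟨g, hg⟩]
    simp

end Cfsg.Agent.SolvStruct.PrimFix
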