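import Mathlib
import Cfsg.Agent.SolvStruct.PrimFix.AbelianNormal

/-!
The fixed space of a nontrivial element of a primitive soluble linear group has dimension at most
three quarters of the whole.
-/

set_option autoImplicit false

namespace Cfsg.Agent.SolvStruct.PrimFix

open Matrix

variable {F : Type*} [Field F] {n : ℕ}

/-- The dimension of the fixed space of a matrix. -/
noncomputable def fixDim (x : GL (Fin n) F) : ℕ :=
  Module.finrank F (LinearMap.ker ((x : Matrix (Fin n) (Fin n) F).toLin' - LinearMap.id))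

theorem mem_fix (x : GL (Fin n) F) (v : Fin n → F) :
    v ∈ LinearMap.ker ((x : Matrix (Fin n) (Fin n) F).toLin' - LinearMap.id) ↔
      (x : Matrix (Fin n) (Fin n) F) *ᵥ v = v := by
  rw [LinearMap.mem_ker, LinearMap.sub_apply, sub_eq_zero, toLin'_apply, LinearMap.id_apply]

/-- `x` and its conjugate share at most the fixed space of the commutator. -/
theorem two_fixDim_le (x h : GL (Fin n) F) :
    2 * fixDim x ≤ n + fixDim (x⁻¹ * (h * x * h⁻¹)) := by
  set W := LinearMap.ker ((x : Matrix (Fin n) (Fin n) F).toLin' - LinearMap.id) with hW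
  set W' := W.map (h : Matrix (Fin n) (Fin n) F).toLin' with hW'
  have hinj : Function.Injective (h : Matrix (Fin n) (Fin n) F).toLin' := by
    intro a b hab
    have := congrArg (((h⁻¹ : GL (Fin n) F) : Matrix (Fin n) (Fin n) F) *ᵥ ·) hab
    simpa [mulVec_mulVec] using this
  have h1 : Module.finrank F W' = fixDim x :=
    (Submodule.equivMapOfInjective _ hinj W).finrank_eq.symm
  have h2 : W ⊓ W' ≤
      LinearMap.ker (((x⁻¹ * (h * x * h⁻¹) : GL (Fin n) F) : Matrix (Fin n) (Fin n) F).toLin' -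
        LinearMap.id) := by
    rintro v ⟨hv, hv'⟩
    obtain ⟨u, hu, rfl⟩ := hv'
    rw [mem_fix]
    rw [SetLike.mem_coe, mem_fix] at hu hv
    rw [toLin'_apply] at hv ⊢
    simp only [Units.val_mul, ← mulVec_mulVec]
    rw [mulVec_mulVec _ ((h⁻¹ : GL (Fin n) F) : Matrix (Fin n) (Fin n) F), Units.inv_mul,
      one_mulVec, hu]
    conv_lhs => rw [← hv]
    rw [mulVec_mulVec, Units.inv_mul, one_mulVec]
  have h3 := Submodule.finrank_sup_add_finrank_inf_eq W W'
  have h4 := Submodule.finrank_le (W ⊔ W')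
  rw [Module.finrank_fin_fun] at h4
  have h5 := Submodule.finrank_mono h2
  rw [h1] at h3
  unfold fixDim at h3 ⊢
  rw [← hW] at *
  omega

variable [Fintype F] (G : Subgroup (GL (Fin n) F))
  (hirr : Cfsg.Geo.ActsIrreducibly (Cfsg.Geo.matrixSet G))
  (hprim : ∀ (m t : ℕ) (D : Fin t → Submodule F (Fin n → F)), 2 ≤ t →
      Cfsg.Geo.IsMDecomposition m D → ¬ G ≤ Cfsg.Geo.decompositionStabilizer D)

include hirr hprim

theorem fixDim_eq_zero_of_abelian (A : Subgroup G) [A.Normal]
    (hA : ∀ a ∈ A, ∀ b ∈ A, a * b = b * a) {a : G} (ha : a ∈ A) (ha1 : a ≠ 1) :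
    fixDim (a : GL (Fin n) F) = 0 := by
  let val : G → Matrix (Fin n) (Fin n) F := fun c => ((c : GL (Fin n) F) : Matrix (Fin n) (Fin n) F)
  let S := Algebra.adjoin F (val '' (A : Set G))
  have hcomm : ∀ x ∈ S, ∀ y ∈ S, x * y = y * x := by
    intro x hx y hy
    have h1 : ∀ c ∈ val '' (A : Set G), Commute c y := fun c hc =>
      Algebra.commute_of_mem_adjoin_of_forall_mem_commute hy fun d hd => by
        obtain ⟨c', hc', rfl⟩ := hc
        obtain ⟨d', hd', rfl⟩ := hd
        show val c' * val d' = val d' * val c'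
        simp only [val, ← Units.val_mul, ← Subgroup.coe_mul, hA c' hc' d' hd']
    exact (Algebra.commute_of_mem_adjoin_of_forall_mem_commute hx fun c hc => (h1 c hc).symm).symm.eq
  have hnorm : ∀ g ∈ G, ∀ x ∈ S,
      (g : Matrix (Fin n) (Fin n) F) * x * ((g⁻¹ : GL (Fin n) F) : Matrix (Fin n) (Fin n) F) ∈ S := by
    intro g hg x hx
    induction hx using Algebra.adjoin_induction with
    | mem x hx =>
      obtain ⟨c, hc, rfl⟩ := hx
      refine Algebra.subset_adjoin ⟨(⟨g, hg⟩ : G) * c * (⟨g, hg⟩ : G)⁻¹,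
        Subgroup.Normal.conj_mem ‹A.Normal› c hc _, ?_⟩
      simp [val]
    | algebraMap r =>
      rw [← Algebra.commutes r (g : Matrix (Fin n) (Fin n) F), mul_assoc, Units.mul_inv, mul_one]
      exact Subalgebra.algebraMap_mem S r
    | add x y _ _ hx hy => rw [mul_add, add_mul]; exact add_mem hx hy
    | mul x y _ _ hx hy =>
      have := mul_mem hx hy
      simpa [mul_assoc] using this
  unfold fixDim
  rw [Submodule.finrank_eq_zero, eq_bot_iff]
  intro v hv
  rw [mem_fix] at hv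
  rw [Submodule.mem_bot]
  refine mulVec_injective_of_primitive G hirr hprim S hcomm hnorm
    (x := val a - 1) (sub_mem (Algebra.subset_adjoin ⟨a, ha, rfl⟩) (one_mem S)) ?_ v ?_
  · rw [sub_ne_zero]
    exact fun h => ha1 (Subtype.ext (Units.ext h))
  · rw [sub_mulVec, one_mulVec]
    simp only [val, hv, sub_self]

/-- The main bound. -/
theorem four_fixDim_le (hsol : IsSolvable G) {g : G} (hg1 : g ≠ 1) :
    4 * fixDim (g : GL (Fin n) F) ≤ 3 * n := by
  obtain ⟨A, ⟨hAn, hAc⟩, hmax⟩ := Set.Finite.exists_maximal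
    (Set.toFinite {A : Subgroup G | A.Normal ∧ ∀ a ∈ A, ∀ b ∈ A, a * b = b * a})
    ⟨⊥, Subgroup.normal_bot, fun a ha b hb => by
      rw [Subgroup.mem_bot.mp ha, Subgroup.mem_bot.mp hb]⟩
  haveI := hAn
  have hzero : ∀ c ∈ A, c ≠ 1 → fixDim (c : GL (Fin n) F) = 0 := fun c hc hc1 =>
    fixDim_eq_zero_of_abelian G hirr hprim A hAc hc hc1
  have htwo : ∀ (x h : G), 2 * fixDim (x : GL (Fin n) F) ≤
      n + fixDim ((x⁻¹ * (h * x * h⁻¹) : G) : GL (Fin n) F) := fun x h =>
    two_fixDim_le (x : GL (Fin n) F) (h : GL (Fin n) F)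
  have hne : ∀ {x h : G}, h * x ≠ x * h → x⁻¹ * (h * x * h⁻¹) ≠ 1 := by
    intro x h hxy heq
    apply hxy
    calc h * x = (x * (x⁻¹ * (h * x * h⁻¹))) * h := by group
      _ = x * h := by rw [heq, mul_one]
  let C : Subgroup G := Subgroup.centralizer (A : Set G)
  have hCn : C.Normal := by show (Subgroup.centralizer (A : Set G)).Normal; infer_instance
  haveI := hCn
  -- the family of normal class two subgroups of `C`
  let Good : Subgroup G → Prop := fun B =>
    B.Normal ∧ B ≤ C ∧ ∀ x ∈ B, ∀ y ∈ B, x * y * x⁻¹ * y⁻¹ ∈ A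
  -- abelian normal subgroups centralizing `A` lie in `A`
  have habs : ∀ Z : Subgroup G, Z.Normal → Z ≤ C →
      (∀ a ∈ Z, ∀ b ∈ Z, a * b = b * a) → Z ≤ A := by
    intro Z hZn hZC hZ
    haveI := hZn
    refine le_sup_right.trans (hmax (y := A ⊔ Z) ⟨inferInstance, ?_⟩ le_sup_left)
    intro a ha b hb
    obtain ⟨a₁, ha₁, a₂, ha₂, rfl⟩ := Subgroup.mem_sup_of_normal_left.mp ha
    obtain ⟨b₁, hb₁, b₂, hb₂, rfl⟩ := Subgroup.mem_sup_of_normal_left.mp hb
    have e1 : Commute a₁ b₁ := hAc _ ha₁ _ hb₁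
    have e2 : Commute a₁ b₂ := Subgroup.mem_centralizer_iff.mp (hZC hb₂) a₁ ha₁
    have e3 : Commute b₁ a₂ := Subgroup.mem_centralizer_iff.mp (hZC ha₂) b₁ hb₁
    have e4 : Commute a₂ b₂ := hZ _ ha₂ _ hb₂
    exact ((e1.mul_right e2).mul_left (e3.symm.mul_right e4)).eq
  have hhalf : ∀ B, Good B → ∀ b ∈ B, b ≠ 1 → 2 * fixDim (b : GL (Fin n) F) ≤ n := by
    rintro B ⟨hBn, hBC, hB⟩ b hb hb1
    by_cases hbA : b ∈ A
    · rw [hzero b hbA hb1]; omega
    haveI := hBn
    let Z : Subgroup G := B ⊓ Subgroup.centralizer (B : Set G)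
    by_cases hbZ : ∃ h ∈ B, h * b ≠ b * h
    · obtain ⟨h, hh, hhb⟩ := hbZ
      have hmem : b⁻¹ * (h * b * h⁻¹) ∈ A := by
        have := hB _ (inv_mem hb) _ hh
        simpa [mul_assoc] using this
      have h2 := htwo b h
      rw [hzero _ hmem (hne hhb)] at h2
      omega
    · push_neg at hbZ
      refine absurd (habs Z inferInstance (inf_le_left.trans hBC) ?_
        ⟨hb, Subgroup.mem_centralizer_iff.mpr fun h hh => hbZ h hh⟩) hbA
      exact fun a ha c hc => (Subgroup.mem_centralizer_iff.mp hc.2 a ha.1)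
  by_cases hgA : g ∈ A
  · rw [hzero g hgA hg1]; omega
  by_cases hgC : g ∈ C
  · by_cases hex : ∃ B, Good B ∧ ∃ b ∈ B, b * g ≠ g * b
    · obtain ⟨B, hB, b, hb, hbg⟩ := hex
      have hmem : g⁻¹ * (b * g * b⁻¹) ∈ B := by
        haveI := hB.1
        have := mul_mem (Subgroup.Normal.conj_mem hB.1 b hb g⁻¹) (inv_mem hb)
        simpa [mul_assoc] using this
      have h2 := htwo g b
      have h3 := hhalf B hB _ hmem (hne hbg)
      omega
    · exfalso
      push_neg at hex
      let M : Subgroup G := C ⊓ ⨅ (B : Subgroup G) (_ : Good B), Subgroup.centralizer (B : Set G)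
      have hgM : g ∈ M := ⟨hgC, Subgroup.mem_iInf.mpr fun B => Subgroup.mem_iInf.mpr fun hB =>
        Subgroup.mem_centralizer_iff.mpr fun b hb => hex B hB b hb⟩
      haveI hMn : M.Normal := by
        refine ⟨fun m hm x => ⟨hCn.conj_mem m hm.1 x, Subgroup.mem_iInf.mpr fun B =>
          Subgroup.mem_iInf.mpr fun hB => ?_⟩⟩
        haveI := hB.1
        exact Subgroup.Normal.conj_mem inferInstance m
          (Subgroup.mem_iInf.mp (Subgroup.mem_iInf.mp hm.2 B) hB) x
      obtain ⟨k, hk⟩ := hsol.solvable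
      have hbad : ¬ (derivedSeries G 0 ⊓ M ≤ A) := by
        rw [derivedSeries_zero, top_inf_eq]
        exact fun h => hgA (h hgM)
      obtain ⟨j, hj1, hj2⟩ : ∃ j, ¬ (derivedSeries G j ⊓ M ≤ A) ∧
          derivedSeries G (j + 1) ⊓ M ≤ A := by
        by_contra hcon
        push_neg at hcon
        have : ∀ j, ¬ (derivedSeries G j ⊓ M ≤ A) := fun j =>
          Nat.rec hbad (fun j ih => hcon j ih) j
        exact this k (by rw [hk, bot_inf_eq]; exact bot_le)
      have hgood : Good (derivedSeries G j ⊓ M) := by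
        refine ⟨inferInstance, inf_le_right.trans inf_le_left, fun x hx y hy => hj2 ⟨?_, ?_⟩⟩
        · rw [derivedSeries_succ]
          exact Subgroup.commutator_mem_commutator hx.1 hy.1
        · exact M.mul_mem (M.mul_mem (M.mul_mem hx.2 hy.2) (M.inv_mem hx.2)) (M.inv_mem hy.2)
      apply hj1
      refine habs _ hgood.1 hgood.2.1 fun a ha b hb => ?_
      exact (Subgroup.mem_centralizer_iff.mp
        (Subgroup.mem_iInf.mp (Subgroup.mem_iInf.mp ha.2.2 _) hgood) b hb).symm
  · obtain ⟨a, ha, hag⟩ : ∃ a ∈ A, a * g ≠ g * a := by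
      by_contra hcon
      push_neg at hcon
      exact hgC (Subgroup.mem_centralizer_iff.mpr hcon)
    have hmem : g⁻¹ * (a * g * a⁻¹) ∈ A := by
      have := mul_mem (hAn.conj_mem a ha g⁻¹) (inv_mem ha)
      simpa [mul_assoc] using this
    have h2 := htwo g a
    rw [hzero _ hmem (hne hag)] at h2
    omega

end Cfsg.Agent.SolvStruct.PrimFix
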